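import Cfsg.Agent.H217.Odm.Real_m3
import Cfsg.Agent.H898.WkCo1
import Cfsg.Agent.H874.Tor.CoTwoThree
import Cfsg.Agent.H345.RecCo2
import Cfsg.Agent.H970.Sep.Co3Seven
import Cfsg.Agent.KFacts.CoTwo.QuotInst
import Cfsg.Agent.S0245
import Cfsg.Agent.H603.SporElim
import Cfsg.Agent.Lib.DivFast
import Cfsg.Agent.Prune
set_option linter.all false
open scoped Cfsg.Agent.FastGrp

/-!
# TEAM ODDM (S4785): the row of `Co2` (helper306)

The centralizer of an element of order `7` has order `56` or `168` (`8` divides it: fixed points on the extraspecial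
group `2^{1+8}`; the centralizers in `Co1` have order `1176` or a divisor of `17640`; `9` does not divide it), so
`|N(⟨x⟩)| = 7 * 48` in both cases.
-/

set_option autoImplicit false

namespace Cfsg.Agent.H306.OdmRowCo2

open Cfsg Subgroup
open Cfsg.Agent.H453.OddM Cfsg.Agent.H217.Odm

universe u

theorem card_co2 : Nat.card Spor.Co2 = 42305421312000 := NotCT.Orders.co2 ⟨MulEquiv.refl _⟩

theorem finite_co2 : Finite Spor.Co2 := Nat.finite_of_card_ne_zero (by rw [card_co2]; norm_num)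

/-! ### `8` divides the order of the centralizer of an element of order `7` -/

/-- fixed points on a normalised subgroup of order `2 ^ 9` -/
theorem eight_of {G : Type*} [Group G] [Finite G] {R : Subgroup G} (hR : Nat.card R = 2 ^ 9) {y z : G}
    (hy : orderOf y = 7) (hyR : ∀ r ∈ R, y * r * y⁻¹ ∈ R) (hz : z ∈ R) (hz1 : z ≠ 1) (hz2 : z * z = 1)
    (hyz : y * z = z * y) : 8 ∣ Nat.card (centralizer ({y} : Set G)) := by
  have h7 : y ^ 7 = 1 := by rw [← hy, pow_orderOf_eq_one]
  have h1 := Cfsg.Agent.H555.TwoSp.SpSeven.card_modEq (α := R) (f := fun r => ⟨y * r * y⁻¹, hyR r r.2⟩) (by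
    intro r
    apply Subtype.ext
    show y * (y * (y * (y * (y * (y * (y * (r : G) * y⁻¹) * y⁻¹) * y⁻¹) * y⁻¹) * y⁻¹) * y⁻¹) * y⁻¹ = r
    have h8 : y * (y * (y * (y * (y * (y * (y * (r : G) * y⁻¹) * y⁻¹) * y⁻¹) * y⁻¹) * y⁻¹) * y⁻¹) * y⁻¹ =
        y ^ 7 * r * (y ^ 7)⁻¹ := by
      rw [show y ^ 7 = y * (y * (y * (y * (y * (y * y))))) by simp only [pow_succ, pow_zero, one_mul, mul_assoc]]
      simp only [mul_inv_rev, mul_assoc]
    rw [h8, h7]; simp)
  set K : Subgroup G := R ⊓ centralizer ({y} : Set G) with hK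
  have h2 : Nat.card {r : R // (⟨y * r * y⁻¹, hyR r r.2⟩ : R) = r} = Nat.card K := by
    refine Nat.card_congr
      { toFun := fun r => ⟨(r.1 : G), mem_inf.2 ⟨r.1.2, mem_centralizer_singleton_iff.2 ?_⟩⟩
        invFun := fun k => ⟨⟨(k : G), (mem_inf.1 k.2).1⟩, Subtype.ext ?_⟩
        left_inv := fun _ => rfl
        right_inv := fun _ => rfl }
    · have h3 := congrArg Subtype.val r.2
      have h4 : y * (r.1 : G) * y⁻¹ = r.1 := h3
      exact (mul_inv_eq_iff_eq_mul.1 h4).symm
    · show y * (k : G) * y⁻¹ = k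
      rw [mul_inv_eq_iff_eq_mul]
      exact (mem_centralizer_singleton_iff.1 (mem_inf.1 k.2).2).symm
  rw [h2, hR] at h1
  have h3 : Nat.card K ∣ 2 ^ 9 := by
    rw [← hR]; exact card_dvd_of_le inf_le_left
  have h4 : 2 ∣ Nat.card K := by
    have hzK : z ∈ K := mem_inf.2 ⟨hz, mem_centralizer_singleton_iff.2 hyz.symm⟩
    have h5 : orderOf z = 2 := orderOf_eq_prime (by rw [pow_two, hz2]) hz1
    rw [← h5]
    exact Subgroup.orderOf_dvd_natCard K hzK
  obtain ⟨k, hk, hk2⟩ := (Nat.dvd_prime_pow Nat.prime_two).1 h3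
  have h5 : 8 ∣ Nat.card K := by
    rw [hk2] at h1 h4 ⊢
    interval_cases k <;> first
      | (exfalso; revert h1; decide)
      | (exfalso; revert h4; decide)
      | decide
  exact h5.trans (card_dvd_of_le inf_le_right)

open Cfsg.Agent.KFacts.CoTwo Cfsg.Agent.Co2Type.TData Cfsg.Agent.Co2Type.FactsD in
theorem exists_eight : ∃ y : Spor.Co2, orderOf y = 7 ∧ 8 ∣ Nat.card (centralizer ({y} : Set Spor.Co2)) := by
  have hfin := finite_co2
  have hsimple := Cfsg.Agent.Schreier.CoTwoStab.isSimpleGroup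
  have h7 : Fact (Nat.Prime 7) := ⟨by norm_num⟩
  obtain ⟨π, hs, -⟩ := Quot.quot QuotInst.hyp
  have h1 : 7 ∣ Nat.card (centralizer ({ge mz} : Set Spor.Co2)) := by
    refine dvd_trans ?_ (Subgroup.card_dvd_of_surjective π hs)
    rw [Cfsg.Agent.S0245.result (F := ZMod 2) (q := 2) (ZMod.card 2) 3]
    decide
  obtain ⟨y, hy⟩ := exists_prime_orderOf_dvd_card' (G := centralizer ({ge mz} : Set Spor.Co2)) 7 h1
  have hL := QuotInst.hyp.large
  have hyz : (y : Spor.Co2) * ge mz = ge mz * y := mem_centralizer_singleton_iff.1 y.2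
  refine ⟨y, by rw [Subgroup.orderOf_coe, hy], ?_⟩
  exact eight_of QuotInst.hyp.card (by rw [Subgroup.orderOf_coe, hy]) (fun r hr => hL.conj_mem _ hyz r hr) hL.z_mem
    hL.z_ne hL.z_sq hyz

/-! ### the centralizer in `Co1` -/

/-- `Co₂` embeds in `Co₁`. -/
theorem exists_co2_hom : ∃ ψ : Spor.Co2 →* Spor.Co1, Function.Injective ψ := by
  refine ⟨(QuotientGroup.mk' (Subgroup.center Co0)).comp
    (Subgroup.inclusion (show Spor.Co2 ≤ Co0 from inf_le_left)), ?_⟩
  rw [injective_iff_map_eq_one]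
  intro g hg
  have h1 : Subgroup.inclusion (show Spor.Co2 ≤ Co0 from inf_le_left) g ∈
      Subgroup.center Co0 := (QuotientGroup.eq_one_iff _).1 hg
  rcases SporadicA.Co0Basic.eq_one_or_neg_of_mem_center h1 with h2 | h2
  · apply Subtype.ext
    exact congrArg (fun t : Co0 => (t : Equiv.Perm leechLattice)) h2
  · exfalso
    have h3 : (g : Equiv.Perm leechLattice) Spor.leechU = Spor.leechU := g.2.2
    have h4 : (g : Equiv.Perm leechLattice) = (SporadicA.Co0Basic.negCo0 : Equiv.Perm leechLattice) :=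
      congrArg (fun t : Co0 => (t : Equiv.Perm leechLattice)) h2
    rw [h4, SporadicA.Co0Basic.negCo0_apply] at h3
    have h5 : -(Spor.vecU none) = Spor.vecU none :=
      congrArg (fun v : leechLattice => (v : GolayPt → ℤ) none) h3
    revert h5
    decide

theorem cent_dvd {x : Spor.Co2} (hx : orderOf x = 7) : Nat.card (centralizer ({x} : Set Spor.Co2)) ∣ 17640 ∨
    Nat.card (centralizer ({x} : Set Spor.Co2)) ∣ 1176 := by
  have hfin : Finite Spor.Co1 := H898.WkCo1.fin
  obtain ⟨ψ, hψ⟩ := exists_co2_hom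
  have h1 : Nat.card (centralizer ({x} : Set Spor.Co2)) ∣ Nat.card ↥(centralizer ({ψ x} : Set Spor.Co1)) := by
    let f : centralizer ({x} : Set Spor.Co2) →* centralizer ({ψ x} : Set Spor.Co1) :=
      (ψ.comp (centralizer ({x} : Set Spor.Co2)).subtype).codRestrict _ fun c => by
        rw [mem_centralizer_singleton_iff]
        show ψ c * ψ x = ψ x * ψ c
        rw [← map_mul, mem_centralizer_singleton_iff.1 c.2, map_mul]
    refine Subgroup.card_dvd_of_injective f fun a b hab => ?_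
    exact Subtype.ext (hψ (congrArg Subtype.val hab))
  rcases H898.WkCo1.seven_cases (s := ψ x) ((orderOf_injective ψ hψ x).trans hx) with ⟨-, h2⟩ | ⟨-, h2⟩
  · exact Or.inl (h1.trans h2)
  · exact Or.inr (h1.trans (dvd_of_eq h2))

theorem arith {c : ℕ} (h8 : 8 ∣ 7 * c) (hd : 7 * c ∣ 17640 ∨ 7 * c ∣ 1176) (h9 : ¬ 9 ∣ 7 * c) (h5 : ¬ 5 ∣ 7 * c)
    (hn : 7 * c ∣ 42305421312000) : c = 8 ∨ c = 24 := by
  have h1 : 7 * c ∣ 7 * 2520 := by
    rcases hd with h | h
    · exact h
    · exact h.trans (by norm_num)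
  have h2 : c ∣ 2520 := Nat.dvd_of_mul_dvd_mul_left (by norm_num) h1
  have h3 : c ∈ Nat.divisors 2520 := Nat.mem_divisors.2 ⟨h2, by norm_num⟩
  have key : ∀ c ∈ Nat.divisors 2520, 8 ∣ 7 * c → ¬ 9 ∣ 7 * c → ¬ 5 ∣ 7 * c → 7 * c ∣ 42305421312000 →
      c = 8 ∨ c = 24 := by (rewrite [Cfsg.Agent.Lib.DivFast.divisors_eq]; decide +kernel)
  exact key c h3 h8 h9 h5 hn

theorem cent_seven {x : Spor.Co2} (hx : orderOf x = 7) : Nat.card (centralizer ({x} : Set Spor.Co2)) = 7 * 8 ∨
    Nat.card (centralizer ({x} : Set Spor.Co2)) = 7 * 24 := by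
  have hfin := finite_co2
  have hxc : x ∈ centralizer ({x} : Set Spor.Co2) := mem_centralizer_singleton_iff.2 rfl
  have hxo : orderOf (⟨x, hxc⟩ : centralizer ({x} : Set Spor.Co2)) = 7 := by rw [Subgroup.orderOf_mk, hx]
  have hcm : ∀ g : centralizer ({x} : Set Spor.Co2), g * ⟨x, hxc⟩ = ⟨x, hxc⟩ * g := fun g =>
    Subtype.ext (mem_centralizer_singleton_iff.1 g.2)
  have h9 := H143.LeechNine.not_nine (H874.Tor.phi2_inj x) H874.Tor.leechU_ne
    (H874.Tor.phi2_fix x) H149.Sp.p7 hxo hcm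
  have h5 : ¬ 5 ∣ Nat.card (centralizer ({x} : Set Spor.Co2)) := by
    have h := H149.Sp.CopCo.co2_7_5 x hx
    rwa [zero_add, pow_one] at h
  have h8 : 8 ∣ Nat.card (centralizer ({x} : Set Spor.Co2)) := by
    obtain ⟨y, hy, h8⟩ := exists_eight
    rw [H311.OdmTools.card_cent_eq (r := 7) (n := 6043631616000) (by norm_num) (by rw [card_co2]) (by norm_num) hy hx]
    exact h8
  have h7 : 7 ∣ Nat.card (centralizer ({x} : Set Spor.Co2)) := by
    rw [← hxo]; exact orderOf_dvd_natCard _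
  have hn : Nat.card (centralizer ({x} : Set Spor.Co2)) ∣ 42305421312000 := by
    rw [← card_co2]; exact card_subgroup_dvd_card _
  have hd := cent_dvd hx
  obtain ⟨c, hc⟩ := h7
  rw [hc] at h9 h5 h8 hn hd ⊢
  rcases arith h8 hd h9 h5 hn with rfl | rfl
  · exact Or.inl rfl
  · exact Or.inr rfl

theorem cent_eleven {x : Spor.Co2} (hx : orderOf x = 11) : Nat.card (centralizer ({x} : Set Spor.Co2)) = 11 := by
  have hfin := finite_co2
  have h11 : Nat.Prime 11 := by norm_num
  have hxc : x ∈ centralizer ({x} : Set Spor.Co2) := mem_centralizer_singleton_iff.2 rfl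
  have key : ∀ q : ℕ, q.Prime → q ≠ 11 → ¬ H58.Rec.HasOrd Spor.Co2 (11 * q) →
      ¬ q ∣ Nat.card (centralizer ({x} : Set Spor.Co2)) := by
    intro q hq hne hno hd
    have hq' : Fact q.Prime := ⟨hq⟩
    obtain ⟨y, hy⟩ := exists_prime_orderOf_dvd_card' q hd
    have hxy : Commute x (y : Spor.Co2) := (mem_centralizer_singleton_iff.1 y.2).symm
    exact hno (H58.Rec.hasOrd_mul hxy hx (by rw [Subgroup.orderOf_coe, hy])
      ((Nat.coprime_primes h11 hq).2 (Ne.symm hne)))
  have h23 : ¬ H58.Rec.HasOrd Spor.Co2 (11 * 23) := H345.RecCo.no_of_cb (by norm_num) (by norm_num)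
    (H149.Sp.CopCo.co2_p5 H149.Sp.p11 H149.Sp.p23 (by norm_num))
  have k2 := key 2 (by norm_num) (by norm_num) H345.RecCo.co2_n22
  have k3 := key 3 (by norm_num) (by norm_num) H345.RecCo.co2_n33
  have k5 := key 5 (by norm_num) (by norm_num) H345.RecCo.co2_n55
  have k7 := key 7 (by norm_num) (by norm_num) H345.RecCo.co2_n77
  have k23 := key 23 (by norm_num) (by norm_num) h23
  have hn : Nat.card (centralizer ({x} : Set Spor.Co2)) ∣ 11 * (2 ^ 18 * (3 ^ 6 * (5 ^ 3 * (7 * 23)))) := by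
    have h1 : Nat.card (centralizer ({x} : Set Spor.Co2)) ∣ Nat.card Spor.Co2 := card_subgroup_dvd_card _
    rw [card_co2] at h1
    exact h1.trans (by norm_num)
  have h1 : 11 ∣ Nat.card (centralizer ({x} : Set Spor.Co2)) := by
    have h2 := orderOf_dvd_natCard (⟨x, hxc⟩ : centralizer ({x} : Set Spor.Co2))
    rwa [Subgroup.orderOf_mk, hx] at h2
  generalize Nat.card (centralizer ({x} : Set Spor.Co2)) = c at *
  have cop : ∀ q : ℕ, q.Prime → ¬ q ∣ c → ∀ k, c.Coprime (q ^ k) := fun q hq h k =>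
    (((Nat.Prime.coprime_iff_not_dvd hq).2 h).symm).pow_right k
  have e1 : c.Coprime (2 ^ 18 * (3 ^ 6 * (5 ^ 3 * (7 * 23)))) := by
    refine Nat.Coprime.mul_right (cop 2 (by norm_num) k2 _) (Nat.Coprime.mul_right (cop 3 (by norm_num) k3 _)
      (Nat.Coprime.mul_right (cop 5 (by norm_num) k5 _) (Nat.Coprime.mul_right ?_ ?_)))
    · simpa using cop 7 (by norm_num) k7 1
    · simpa using cop 23 (by norm_num) k23 1
  exact Nat.dvd_antisymm (e1.dvd_of_dvd_mul_right hn) h1

/-! ### the normalizers -/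

theorem norm_seven {T : Type*} [Group T] [Finite T] (e : T ≃* Spor.Co2) {x : T} (hx : orderOf x = 7) :
    Nat.card (normalizer ((zpowers x : Subgroup T) : Set T)) = 7 * 48 ∧ IsReal x := by
  have hcT : Nat.card T = 7 * 6043631616000 := by rw [Nat.card_congr e.toEquiv, card_co2]
  have h1 := cent_seven (x := e x) (by rw [MulEquiv.orderOf_eq, hx])
  rw [H311.OdmTools.card_cent_map] at h1
  rcases h1 with h1 | h1
  · have h2 := norm_of_cent (e := 6) (by norm_num) hcT (by norm_num) hx h1 (by norm_num) (by norm_num)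
    exact ⟨h2.1, h2.2 (by decide)⟩
  · have h2 := norm_of_cent (e := 2) (by norm_num) hcT (by norm_num) hx h1 (by norm_num) (by norm_num)
    exact ⟨h2.1, h2.2 (by decide)⟩

theorem norm_eleven {T : Type*} [Group T] [Finite T] (e : T ≃* Spor.Co2) {x : T} (hx : orderOf x = 11) :
    Nat.card (normalizer ((zpowers x : Subgroup T) : Set T)) = 11 * 10 ∧ IsReal x := by
  have hcT : Nat.card T = 11 * 3845947392000 := by rw [Nat.card_congr e.toEquiv, card_co2]
  have h1 := cent_eleven (x := e x) (by rw [MulEquiv.orderOf_eq, hx])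
  rw [H311.OdmTools.card_cent_map] at h1
  have h1' : Nat.card (centralizer ({x} : Set T)) = 11 * 1 := by rw [h1]
  have h2 := norm_of_cent (e := 10) (by norm_num) hcT (by norm_num) hx h1' (by norm_num) (by norm_num)
  exact ⟨h2.1, h2.2 (by decide)⟩

theorem chk : chkBase' 42305421312000 [(2, 18), (3, 6), (5, 3), (7, 1), (11, 1), (23, 1)] 7 [11]
    [(7, 48, true), (11, 10, true)] = true := by decide +kernel

theorem chkLeft : (left 42305421312000 [(2, 18), (3, 6), (5, 3), (7, 1), (11, 1), (23, 1)] 7 [11]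
    [(7, 48, true), (11, 10, true)] []).isEmpty = true := by decide +kernel

theorem dvd_of_real {T : Type*} [Group T] {R : Subgroup T} (hR : RO T R) {p : ℕ} (h : RealP T p) : p ∣ Nat.card R := by
  obtain ⟨x, hx, hr⟩ := h
  obtain ⟨g, hg⟩ := hR.exists_conj hr
  have h1 := Subgroup.orderOf_dvd_natCard R hg
  rwa [show orderOf (g * x * g⁻¹) = p from (MulEquiv.orderOf_eq (MulAut.conj g) x).trans hx] at h1

/-- **The row of `Co2`.** -/
theorem row (tab : Cfsg.Agent.OrdDiv.OrderTable.{u}) (known : Cfsg.Agent.H257.El.Known.{u}) {T : Type u} [Group T]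
    (h : Cfsg.Spor.IsoCo2 T) : Cfsg.Agent.H453.OddM.Row T := by
  have hc := NotCT.Orders.co2 h
  have hfin : Finite T := Nat.finite_of_card_ne_zero (by rw [hc]; norm_num)
  obtain ⟨e⟩ := h
  have f7 : Fact (Nat.Prime 7) := ⟨by norm_num⟩
  have f11 : Fact (Nat.Prime 11) := ⟨by norm_num⟩
  have r7 : RealP T 7 := by
    obtain ⟨x, hx⟩ := exists_prime_orderOf_dvd_card' (G := T) 7 (by rw [hc]; norm_num)
    exact ⟨x, hx, (norm_seven e hx).2⟩
  have r11 : RealP T 11 := by
    obtain ⟨x, hx⟩ := exists_prime_orderOf_dvd_card' (G := T) 11 (by rw [hc]; norm_num)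
    exact ⟨x, hx, (norm_eleven e hx).2⟩
  refine row_of_left (n := 42305421312000) (l := [(2, 18), (3, 6), (5, 3), (7, 1), (11, 1), (23, 1)]) (r := 7)
    (ss := [11]) (aux := [(7, 48, true), (11, 10, true)]) (dv := []) tab known hc (by norm_num) ?_ ?_ ?_ ?_ chk chkLeft
  · intro R hR
    exact dvd_of_real hR r7
  · intro s hs
    obtain rfl : s = 11 := by simpa using hs
    refine ⟨by norm_num, fun R hR => dvd_of_real hR r11, ?_⟩
    refine H311.OdmTools.no_mul (by norm_num) (by norm_num) fun z hz => ?_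
    have h1 := cent_seven (x := e z) (by rw [MulEquiv.orderOf_eq, hz])
    rw [H311.OdmTools.card_cent_map] at h1
    rcases h1 with h1 | h1 <;> rw [h1] <;> norm_num
  · intro R hR x hx
    simp only [List.mem_cons, List.not_mem_nil, or_false] at hx
    rcases hx with rfl | rfl
    · exact Pt.of_real hR (by norm_num) (by norm_num) r7 (by norm_num) (fun x hx => (norm_seven e hx).1) true
    · exact Pt.of_real hR (by norm_num) (by norm_num) r11 (by norm_num) (fun x hx => (norm_eleven e hx).1) true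
  · intro R hR d hd
    simp at hd

end Cfsg.Agent.H306.OdmRowCo2
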